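import Mathlib

/-!
# The abelian subgroups of order `5^4` (S3384, piece S)
-/

set_option autoImplicit false

namespace Cfsg.Agent.H299.EE

universe u

theorem card_rel {G : Type u} [Group G] (H K : Subgroup G) (h : H ≤ K) : H.relIndex K * Nat.card H = Nat.card K := by
  have h1 := (H.subgroupOf K).index_mul_card
  rwa [Nat.card_congr (Subgroup.subgroupOfEquivOfLe h).toEquiv] at h1

/-- S : Sylow argument -/
theorem conj_of {G : Type u} [Group G] [Finite G] (E : Subgroup G) (hE : Nat.card E = 625)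
    (_hab : ∀ a ∈ E, ∀ b ∈ E, a * b = b * a) (hG : ¬ 5 ^ 6 ∣ Nat.card G)
    (key : ∀ x : G, (∃ n : ℕ, x ^ 5 ^ n = 1) → (∀ e ∈ E, x * e * x⁻¹ ∈ E) →
      (∃ H : Subgroup G, H ≤ E ∧ Nat.card H = 125 ∧ ∀ h ∈ H, x * h = h * x) → x ∈ E)
    (A : Subgroup G) (hA : Nat.card A = 625) (hA2 : ∀ a ∈ A, ∀ b ∈ A, a * b = b * a) :
    ∃ g : G, A.map (MulAut.conj g).toMonoidHom = E := by
  have hp : Fact (Nat.Prime 5) := ⟨by norm_num⟩
  have hEp : IsPGroup 5 E := IsPGroup.of_card (n := 4) (by rw [hE]; norm_num)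
  have hAp : IsPGroup 5 A := IsPGroup.of_card (n := 4) (by rw [hA]; norm_num)
  obtain ⟨P, hEP⟩ := hEp.exists_le_sylow
  obtain ⟨Q, hAQ⟩ := hAp.exists_le_sylow
  obtain ⟨g, hg⟩ := MulAction.exists_smul_eq G Q P
  refine ⟨g, ?_⟩
  set B := A.map (MulAut.conj g).toMonoidHom with hB
  have hBP : B ≤ (P : Subgroup G) := by
    rw [← hg]
    rintro x ⟨a, ha, rfl⟩
    exact Subgroup.smul_mem_pointwise_smul a (MulAut.conj g) _ (hAQ ha)
  have hBc : Nat.card B = 625 := by
    rw [← hA]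
    exact Nat.card_congr (A.equivMapOfInjective _ (MulAut.conj g).injective).toEquiv.symm
  have hB2 : ∀ a ∈ B, ∀ b ∈ B, a * b = b * a := by
    rintro a ⟨a, ha, rfl⟩ b ⟨b, hb, rfl⟩
    rw [← map_mul, ← map_mul, hA2 a ha b hb]
  -- it is enough that `B ≤ E`
  have fin : B ≤ E → B = E := by
    intro h
    have : Finite E := inferInstance
    exact Subgroup.eq_of_le_of_card_ge h (by rw [hE, hBc])
  apply fin
  obtain ⟨n, hn⟩ := IsPGroup.iff_card.1 P.isPGroup'
  have hn6 : n < 6 := by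
    by_contra h
    push Not at h
    apply hG
    exact ((pow_dvd_pow 5 h).trans (hn ▸ dvd_refl _)).trans (Subgroup.card_subgroup_dvd_card (P : Subgroup G))
  have hd4 : 5 ^ 4 ∣ 5 ^ n := by
    rw [← hn, show (5 : ℕ) ^ 4 = Nat.card E by rw [hE]; norm_num]
    exact Subgroup.card_dvd_of_le hEP
  have hn4 : 4 ≤ n := (Nat.pow_dvd_pow_iff_le_right (by norm_num)).1 hd4
  have hcases : n = 4 ∨ n = 5 := by omega
  rcases hcases with rfl | rfl
  · have h1 : E = (P : Subgroup G) := Subgroup.eq_of_le_of_card_ge hEP (by rw [hE, hn]; norm_num)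
    rw [h1]
    exact hBP
  have hidx : E.relIndex P = 5 := by
    have h1 := card_rel E P hEP
    rw [hE, hn] at h1
    omega
  have hnorm : (E.subgroupOf P).Normal := by
    apply Subgroup.normal_of_index_eq_minFac_card
    show E.relIndex P = _
    rw [hidx, hn, Nat.Prime.pow_minFac (by norm_num) (by norm_num)]
  intro x hx
  by_contra hxE
  apply hxE
  have hB5 : E.relIndex B ≤ 5 := by
    rw [← hidx]
    exact Subgroup.relIndex_le_of_le_right hBP (by rw [hidx]; norm_num)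
  have hm : E.relIndex B * Nat.card ↥(E ⊓ B) = 625 := by
    have h1 := card_rel (E ⊓ B) B inf_le_right
    rwa [Subgroup.inf_relIndex_right, hBc] at h1
  have hne : E.relIndex B ≠ 1 := by
    intro h
    exact hxE (Subgroup.relIndex_eq_one.1 h hx)
  have h125 : Nat.card ↥(E ⊓ B) = 125 := by
    generalize E.relIndex B = r at hB5 hm hne
    generalize Nat.card ↥(E ⊓ B) = m at hm
    interval_cases r
    · omega
    · omega
    · omega
    · omega
    · omega
    · omega
  refine key x ?_ ?_ ⟨E ⊓ B, inf_le_left, h125, ?_⟩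
  · obtain ⟨k, hk⟩ := P.isPGroup' ⟨x, hBP hx⟩
    exact ⟨k, congrArg Subtype.val hk⟩
  · intro e he
    have h1 := hnorm.conj_mem ⟨e, hEP he⟩ (Subgroup.mem_subgroupOf.2 he) ⟨x, hBP hx⟩
    exact Subgroup.mem_subgroupOf.1 h1
  · intro h hh
    exact hB2 x hx h hh.2

end Cfsg.Agent.H299.EE
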